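import Mathlib
import Cfsg.Agent.Classical.Semisimple.OrderRCount
import Cfsg.Agent.Spec53.SUSemisimple

/-!
Counting monic polynomials equal to their conjugate-reciprocal whose roots are `r`-th roots of unity.
-/

set_option autoImplicit false
set_option linter.unusedSectionVars false

namespace CfsgLib.SelfDualCount

open Polynomial UniqueFactorizationMonoid CfsgLib.Classical.Semisimple CfsgLib.Spec53
open scoped _root_.Classical

variable {F : Type*} [Field F] [Fintype F] {r : ℕ} [hr : Fact r.Prime] {σ : F →+* F}

/-- Monic self-dual polynomials of degree `n` with all roots `r`-th roots of unity. -/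
def IsAdm (σ : F →+* F) (r n : ℕ) (χ : F[X]) : Prop :=
  χ.Monic ∧ χ.natDegree = n ∧ conjRecip σ χ = χ ∧
    ∀ P : F[X], Irreducible P → P.Monic → P ∣ χ → P ∣ X ^ r - 1

/-- An orbit polynomial with its dual. -/
noncomputable def atom (σ : F →+* F) (P : F[X]) : F[X] :=
  if conjRecip σ P = P then P else P * conjRecip σ P

/-- The self-dual blocks. -/
noncomputable def atoms (σ : F →+* F) (r : ℕ) : Finset F[X] :=
  (orbitPolys F r).image (atom σ)

theorem conjRecip_one : conjRecip σ (1 : F[X]) = 1 := by
  simp [conjRecip, Polynomial.reverse]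

theorem conjRecip_prod (s : Multiset F[X]) :
    conjRecip σ s.prod = (s.map (conjRecip σ)).prod := by
  induction s using Multiset.induction_on with
  | empty => simp [conjRecip_one]
  | cons a s ih => rw [Multiset.prod_cons, conjRecip_mul, ih, Multiset.map_cons, Multiset.prod_cons]

theorem conjRecip_X_sub_one : conjRecip σ (X - 1 : F[X]) = X - 1 := by
  have hm : (X - 1 : F[X]).Monic := by rw [← C_1]; exact monic_X_sub_C 1
  have h0 : (X - 1 : F[X]).coeff 0 = -1 := by simp
  have hd : (X - 1 : F[X]).natDegree = 1 := by rw [← C_1]; exact natDegree_X_sub_C 1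
  have h0' : (X - 1 : F[X]).coeff 0 ≠ 0 := by rw [h0]; simp
  refine ((monic_conjRecip h0').eq_X_add_C (by rw [natDegree_conjRecip h0', hd])).trans ?_
  rw [coeff_zero_conjRecip hm, h0]
  simp [sub_eq_add_neg, inv_neg]

theorem coeff_cyclotomic_prime {k : ℕ} :
    (cyclotomic r F).coeff k = if k < r then 1 else 0 := by
  rw [cyclotomic_prime, finsetSum_coeff]
  simp [coeff_X_pow]

theorem conjRecip_cyclotomic : conjRecip σ (cyclotomic r F) = cyclotomic r F := by
  have h0 : (cyclotomic r F).coeff 0 = 1 := cyclotomic_coeff_zero F hr.out.one_lt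
  have hd : (cyclotomic r F).natDegree = r - 1 := by
    rw [natDegree_cyclotomic, Nat.totient_prime hr.out]
  have h0' : (cyclotomic r F).coeff 0 ≠ 0 := by rw [h0]; exact one_ne_zero
  refine Polynomial.ext fun k => ?_
  rcases le_or_gt k (r - 1) with hk | hk
  · rw [coeff_conjRecip (hd ▸ hk), hd, h0, map_one, inv_one, one_mul, coeff_cyclotomic_prime,
      coeff_cyclotomic_prime]
    have := hr.out.one_lt
    rw [if_pos (by omega), if_pos (by omega), map_one]
  · rw [coeff_eq_zero_of_natDegree_lt (by rw [natDegree_conjRecip h0', hd]; exact hk),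
      coeff_eq_zero_of_natDegree_lt (by rw [hd]; exact hk)]

theorem coeff_zero_orbit {P : F[X]} (hP : P ∈ orbitPolys F r) : P.coeff 0 ≠ 0 := by
  obtain ⟨c, hc⟩ := ((mem_orbitPolys P).1 hP).2.2
  intro h
  have h1 := congrArg (fun T => coeff T 0) hc
  simp only [mul_coeff_zero, h, zero_mul, cyclotomic_coeff_zero F hr.out.one_lt] at h1
  exact one_ne_zero h1

theorem dvd_X_pow_of_mem_orbit {P : F[X]} (hP : P ∈ orbitPolys F r) : P ∣ X ^ r - 1 := by
  rw [← cyclotomic_prime_mul_X_sub_one]
  exact Dvd.dvd.mul_right ((mem_orbitPolys P).1 hP).2.2 _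

theorem orbit_ne_X_sub_one (hrF : (r : F) ≠ 0) {P : F[X]} (hP : P ∈ orbitPolys F r) :
    P ≠ X - 1 := by
  intro h
  have h1 := ((mem_orbitPolys _).mp hP).2.2
  rw [h, ← C_1, dvd_iff_isRoot, IsRoot.def, eval_one_cyclotomic_prime] at h1
  exact hrF h1

theorem orbit_or_X_sub_one {P : F[X]} (hP : Irreducible P) (hm : P.Monic) (hd : P ∣ X ^ r - 1) :
    P = X - 1 ∨ P ∈ orbitPolys F r := by
  rw [← cyclotomic_prime_mul_X_sub_one] at hd
  rcases hP.prime.dvd_or_dvd hd with h | h
  · exact Or.inr ((mem_orbitPolys P).2 ⟨hP, hm, h⟩)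
  · left
    rw [← C_1] at h ⊢
    exact eq_of_monic_of_associated hm (monic_X_sub_C 1)
      (hP.associated_of_dvd (irreducible_X_sub_C 1) h)

theorem nf_of_irreducible {P : F[X]} (hP : Irreducible P) (hm : P.Monic) :
    normalizedFactors P = {P} := by
  rw [normalizedFactors_irreducible hP, hm.normalize_eq_self]

section

variable (hσ : ∀ x, σ (σ x) = x)
include hσ

theorem dual_mem_orbit {P : F[X]} (hP : P ∈ orbitPolys F r) : conjRecip σ P ∈ orbitPolys F r := by
  obtain ⟨hi, hm, c, hc⟩ := (mem_orbitPolys P).1 hP
  refine (mem_orbitPolys _).2 ⟨irreducible_conjRecip hσ hi hm (coeff_zero_orbit hP),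
    monic_conjRecip (coeff_zero_orbit hP), conjRecip σ c, ?_⟩
  rw [← conjRecip_mul, ← hc, conjRecip_cyclotomic]

theorem dual_dual_orbit {P : F[X]} (hP : P ∈ orbitPolys F r) :
    conjRecip σ (conjRecip σ P) = P :=
  conjRecip_conjRecip hσ ((mem_orbitPolys P).1 hP).2.1 (coeff_zero_orbit hP)

theorem conjRecip_atom {P : F[X]} (hP : P ∈ orbitPolys F r) :
    conjRecip σ (atom σ P) = atom σ P := by
  unfold atom
  split_ifs with h
  · exact h
  · rw [conjRecip_mul, dual_dual_orbit hσ hP, mul_comm]

theorem monic_atom {P : F[X]} (hP : P ∈ orbitPolys F r) : (atom σ P).Monic := by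
  unfold atom
  split_ifs with h
  · exact ((mem_orbitPolys P).1 hP).2.1
  · exact ((mem_orbitPolys P).1 hP).2.1.mul ((mem_orbitPolys _).1 (dual_mem_orbit hσ hP)).2.1

theorem atom_dual {P : F[X]} (hP : P ∈ orbitPolys F r) :
    atom σ (conjRecip σ P) = atom σ P := by
  by_cases h : conjRecip σ P = P
  · rw [h]
  · rw [atom, dual_dual_orbit hσ hP, if_neg (Ne.symm h), atom, if_neg h, mul_comm]

theorem orbit_of_dvd_atom {P T : F[X]} (hP : P ∈ orbitPolys F r) (hT : Irreducible T) (hTm : T.Monic)
    (hd : T ∣ atom σ P) : T = P ∨ T = conjRecip σ P := by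
  have key : ∀ S ∈ orbitPolys F r, T ∣ S → T = S := fun S hS h =>
    eq_of_monic_of_associated hTm ((mem_orbitPolys S).1 hS).2.1
      (hT.associated_of_dvd ((mem_orbitPolys S).1 hS).1 h)
  unfold atom at hd
  split_ifs at hd with h
  · exact Or.inl (key P hP hd)
  · rcases hT.prime.dvd_or_dvd hd with h' | h'
    · exact Or.inl (key P hP h')
    · exact Or.inr (key _ (dual_mem_orbit hσ hP) h')

theorem atom_eq_iff {P T : F[X]} (hP : P ∈ orbitPolys F r) (hT : T ∈ orbitPolys F r) :
    atom σ T = atom σ P ↔ T = P ∨ T = conjRecip σ P := by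
  refine ⟨fun h => orbit_of_dvd_atom hσ hP ((mem_orbitPolys T).1 hT).1 ((mem_orbitPolys T).1 hT).2.1 ?_, ?_⟩
  · rw [← h, atom]
    split_ifs
    · exact dvd_rfl
    · exact dvd_mul_right _ _
  · rintro (rfl | rfl)
    · rfl
    · exact atom_dual hσ hP

theorem count_nf_atom {P T : F[X]} (hP : P ∈ orbitPolys F r) (hT : T ∈ orbitPolys F r) :
    (normalizedFactors (atom σ P)).count T = if atom σ T = atom σ P then 1 else 0 := by
  obtain ⟨hi, hm, -⟩ := (mem_orbitPolys P).1 hP
  obtain ⟨hi', hm', -⟩ := (mem_orbitPolys _).1 (dual_mem_orbit hσ hP)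
  simp only [atom_eq_iff hσ hP hT]
  unfold atom
  split_ifs with h h2 h2
  all_goals
    first
      | rw [normalizedFactors_mul hm.ne_zero hm'.ne_zero, nf_of_irreducible hi hm, nf_of_irreducible hi' hm']
      | rw [nf_of_irreducible hi hm]
  all_goals simp only [Multiset.count_add, Multiset.count_singleton]
  · rw [if_pos (by rcases h2 with h2 | h2; exacts [h2, h2.trans h])]
  · rw [if_neg (fun e => h2 (Or.inl e))]
  · rcases h2 with rfl | rfl
    · rw [if_pos rfl, if_neg (Ne.symm h)]
    · rw [if_neg h, if_pos rfl]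
  · rw [if_neg (fun e => h2 (Or.inl e)), if_neg (fun e => h2 (Or.inr e))]

theorem card_atoms_fixed (h : ∀ P ∈ orbitPolys F r, conjRecip σ P = P) :
    (atoms σ r).card = (orbitPolys F r).card := by
  refine Finset.card_image_of_injOn fun P hP T hT e => ?_
  rcases (atom_eq_iff hσ hT hP).1 e with h' | h'
  · exact h'
  · exact h'.trans (h T hT)

theorem card_atoms_moved (h : ∀ P ∈ orbitPolys F r, conjRecip σ P ≠ P) :
    2 * (atoms σ r).card = (orbitPolys F r).card := by
  rw [Finset.card_eq_sum_card_image (atom σ) (orbitPolys F r), Finset.sum_const_nat (m := 2),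
    mul_comm]
  · rfl
  intro A hA
  obtain ⟨P, hP, rfl⟩ := Finset.mem_image.1 hA
  rw [Finset.card_eq_two]
  refine ⟨P, conjRecip σ P, Ne.symm (h P hP), ?_⟩
  ext T
  simp only [Finset.mem_filter, Finset.mem_insert, Finset.mem_singleton]
  constructor
  · rintro ⟨hT, e⟩
    exact (atom_eq_iff hσ hP hT).1 e
  · rintro (rfl | rfl)
    · exact ⟨hP, rfl⟩
    · exact ⟨dual_mem_orbit hσ hP, atom_dual hσ hP⟩

/-- The polynomial attached to a choice of blocks. -/
noncomputable def val (σ : F →+* F) (r w : ℕ) (o : Option (atoms σ r)) : F[X] :=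
  o.elim ((X - 1) ^ w) Subtype.val

theorem monic_val (w : ℕ) (o : Option (atoms σ r)) : (val σ r w o).Monic := by
  rcases o with _ | ⟨A, hA⟩
  · rw [val, Option.elim_none, ← C_1]; exact (monic_X_sub_C 1).pow w
  · obtain ⟨P, hP, rfl⟩ := Finset.mem_image.1 hA
    exact monic_atom hσ hP

theorem conjRecip_val (w : ℕ) (o : Option (atoms σ r)) : conjRecip σ (val σ r w o) = val σ r w o := by
  rcases o with _ | ⟨A, hA⟩
  · rw [val, Option.elim_none]
    induction w with
    | zero => rw [pow_zero, conjRecip_one]
    | succ w ih => rw [pow_succ, conjRecip_mul, ih, conjRecip_X_sub_one]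
  · obtain ⟨P, hP, rfl⟩ := Finset.mem_image.1 hA
    exact conjRecip_atom hσ hP

theorem monic_prod_val (w : ℕ) (m : Multiset (Option (atoms σ r))) :
    (m.map (val σ r w)).prod.Monic :=
  monic_multiset_prod_of_monic _ _ fun o _ => monic_val hσ w o

theorem count_prod_val (hrF : (r : F) ≠ 0) (w : ℕ) {T : F[X]} (hT : T ∈ orbitPolys F r)
    (m : Multiset (Option (atoms σ r))) (hA : atom σ T ∈ atoms σ r) :
    (normalizedFactors (m.map (val σ r w)).prod).count T = m.count (some ⟨_, hA⟩) := by
  induction m using Multiset.induction_on with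
  | empty => simp
  | cons o m ih =>
    rw [Multiset.map_cons, Multiset.prod_cons,
      normalizedFactors_mul (monic_val hσ w o).ne_zero (monic_prod_val hσ w m).ne_zero,
      Multiset.count_add, ih, Multiset.count_cons, add_comm]
    congr 1
    rcases o with _ | ⟨A, hA'⟩
    · rw [val, Option.elim_none, normalizedFactors_pow, Multiset.count_nsmul,
        nf_of_irreducible (by rw [← C_1]; exact irreducible_X_sub_C 1)
          (by rw [← C_1]; exact monic_X_sub_C 1), Multiset.count_singleton,
        if_neg (orbit_ne_X_sub_one hrF hT), mul_zero, if_neg (by simp)]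
    · obtain ⟨P, hP, rfl⟩ := Finset.mem_image.1 hA'
      rw [val, Option.elim_some, count_nf_atom hσ hP hT]
      simp

theorem mem_nf_prod_some (w : ℕ) (m : Multiset (atoms σ r)) {T : F[X]}
    (hT : T ∈ normalizedFactors ((m.map some).map (val σ r w)).prod) : T ∈ orbitPolys F r := by
  have hi := irreducible_of_normalized_factor T hT
  have hm : T.Monic := by
    rw [← normalize_normalized_factor T hT]; exact Polynomial.monic_normalize hi.ne_zero
  obtain ⟨A, hA, hd⟩ := hi.prime.exists_mem_multiset_dvd (dvd_of_mem_normalizedFactors hT)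
  rw [Multiset.map_map, Multiset.mem_map] at hA
  obtain ⟨⟨B, hB⟩, -, rfl⟩ := hA
  obtain ⟨P, hP, rfl⟩ := Finset.mem_image.1 hB
  rcases orbit_of_dvd_atom hσ hP hi hm hd with rfl | rfl
  · exact hP
  · exact dual_mem_orbit hσ hP

theorem natDegree_prod_val {w : ℕ} (hw : ∀ A ∈ atoms σ r, A.natDegree = w)
    (m : Multiset (Option (atoms σ r))) : (m.map (val σ r w)).prod.natDegree = Multiset.card m * w := by
  induction m using Multiset.induction_on with
  | empty => simp
  | cons o m ih =>
    rw [Multiset.map_cons, Multiset.prod_cons, (monic_val hσ w o).natDegree_mul (monic_prod_val hσ w m),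
      ih, Multiset.card_cons, add_one_mul, add_comm]
    congr 1
    rcases o with _ | ⟨A, hA⟩
    · rw [val, Option.elim_none, natDegree_pow, ← C_1, natDegree_X_sub_C, mul_one]
    · exact hw A hA

theorem prod_replicate_none (w k : ℕ) :
    ((Multiset.replicate k (none : Option (atoms σ r))).map (val σ r w)).prod = (X - 1) ^ (k * w) := by
  rw [Multiset.map_replicate, Multiset.prod_replicate, val, Option.elim_none, ← pow_mul, mul_comm]

/-- The number of admissible polynomials. -/
theorem card_adm (hrF : (r : F) ≠ 0) {w : ℕ} (hw0 : 0 < w)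
    (hw : ∀ A ∈ atoms σ r, A.natDegree = w) (n : ℕ) :
    Nat.card {χ : F[X] // IsAdm σ r n χ} = (n / w + (atoms σ r).card).choose (atoms σ r).card := by
  have hX : Irreducible (X - 1 : F[X]) ∧ (X - 1 : F[X]).Monic ∧ (X - 1 : F[X]).natDegree = 1 := by
    rw [← C_1]
    exact ⟨irreducible_X_sub_C 1, monic_X_sub_C 1, natDegree_X_sub_C 1⟩
  have hcnt : ∀ (m : Multiset (Option (atoms σ r))) (j : ℕ) (T : F[X]) (hT : T ∈ orbitPolys F r),
      (normalizedFactors ((m.map (val σ r w)).prod * (X - 1) ^ j)).count T =
        m.count (some ⟨_, Finset.mem_image_of_mem _ hT⟩) := by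
    intro m j T hT
    rw [normalizedFactors_mul (monic_prod_val hσ w m).ne_zero (hX.2.1.pow j).ne_zero,
      Multiset.count_add, count_prod_val hσ hrF w hT m (Finset.mem_image_of_mem _ hT),
      normalizedFactors_pow, Multiset.count_nsmul,
      nf_of_irreducible hX.1 hX.2.1, Multiset.count_singleton, if_neg (orbit_ne_X_sub_one hrF hT),
      mul_zero, add_zero]
  have hadm : ∀ s : Sym (Option (atoms σ r)) (n / w),
      IsAdm σ r n (((s : Multiset (Option (atoms σ r))).map (val σ r w)).prod * (X - 1) ^ (n % w)) := by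
    intro s
    refine ⟨(monic_prod_val hσ w _).mul (hX.2.1.pow _), ?_, ?_, fun P hP hPm hd => ?_⟩
    · rw [(monic_prod_val hσ w _).natDegree_mul (hX.2.1.pow _), natDegree_prod_val hσ hw,
        natDegree_pow, hX.2.2, mul_one, show Multiset.card (s : Multiset (Option (atoms σ r))) = n / w from s.2]
      exact Nat.div_add_mod' n w
    · rw [conjRecip_mul, conjRecip_prod, Multiset.map_map,
        Multiset.map_congr rfl (fun o _ => show (conjRecip σ ∘ val σ r w) o = val σ r w o from
          conjRecip_val hσ w o)]
      congr 1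
      generalize n % w = j
      induction j with
      | zero => rw [pow_zero, conjRecip_one]
      | succ j ih => rw [pow_succ, conjRecip_mul, ih, conjRecip_X_sub_one]
    · have hX1 : (X - 1 : F[X]) ∣ X ^ r - 1 := by
        rw [← cyclotomic_prime_mul_X_sub_one]; exact dvd_mul_left _ _
      have key : ∀ j : ℕ, P ∣ (X - 1 : F[X]) ^ j → P ∣ X ^ r - 1 := fun j h =>
        (hP.prime.dvd_of_dvd_pow h).trans hX1
      rcases hP.prime.dvd_or_dvd hd with h | h
      · obtain ⟨A, hA, hdA⟩ := hP.prime.exists_mem_multiset_dvd h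
        obtain ⟨o, -, rfl⟩ := Multiset.mem_map.1 hA
        rcases o with _ | ⟨B, hB⟩
        · exact key w hdA
        · obtain ⟨T, hT, rfl⟩ := Finset.mem_image.1 hB
          rcases orbit_of_dvd_atom hσ hT hP hPm hdA with rfl | rfl
          · exact dvd_X_pow_of_mem_orbit hT
          · exact dvd_X_pow_of_mem_orbit (dual_mem_orbit hσ hT)
      · exact key _ h
  have hbij : Function.Bijective (fun s : Sym (Option (atoms σ r)) (n / w) =>
      (⟨_, hadm s⟩ : {χ : F[X] // IsAdm σ r n χ})) := by
    constructor
    · intro s t hst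
      have h1 := congrArg Subtype.val hst
      simp only at h1
      have hsome : ∀ A, Multiset.count (some A) (s : Multiset (Option (atoms σ r))) =
          Multiset.count (some A) (t : Multiset (Option (atoms σ r))) := by
        rintro ⟨A, hA⟩
        obtain ⟨T, hT, rfl⟩ := Finset.mem_image.1 hA
        have h2 := congrArg (fun χ => (normalizedFactors χ).count T) h1
        simp only [hcnt _ _ T hT] at h2
        exact h2
      refine Sym.coe_injective (Multiset.ext.mpr ?_)
      rintro (_ | A)
      · have h3 : ∀ u : Sym (Option (atoms σ r)) (n / w),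
            Multiset.count none (u : Multiset (Option (atoms σ r))) +
              ∑ A : atoms σ r, Multiset.count (some A) (u : Multiset (Option (atoms σ r))) = n / w :=
          fun u => by
            rw [← Fintype.sum_option (fun o => Multiset.count o (u : Multiset (Option (atoms σ r)))),
              Multiset.sum_count_eq_card fun o _ => Finset.mem_univ o]
            exact u.2
        have h4 := h3 s
        have h5 := h3 t
        simp only [hsome] at h4
        omega
      · exact hsome A
    · rintro ⟨χ, hχm, hχd, hχs, hχr⟩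
      set μ := normalizedFactors χ with hμ
      have hμspec : ∀ P ∈ μ, Irreducible P ∧ P.Monic ∧ (P = X - 1 ∨ P ∈ orbitPolys F r) := by
        intro P hP
        have hi := irreducible_of_normalized_factor P hP
        have hm : P.Monic := by
          rw [← normalize_normalized_factor P hP]; exact Polynomial.monic_normalize hi.ne_zero
        exact ⟨hi, hm, orbit_or_X_sub_one hi hm (hχr P hi hm (dvd_of_mem_normalizedFactors hP))⟩
      have hμprod : μ.prod = χ := by
        rw [hμ, prod_normalizedFactors_eq hχm.ne_zero, hχm.normalize_eq_self]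
      have hμsym : μ.map (conjRecip σ) = μ := by
        have hspec : ∀ P ∈ μ.map (conjRecip σ), Irreducible P ∧ P.Monic := by
          intro P hP
          obtain ⟨T, hT, rfl⟩ := Multiset.mem_map.1 hP
          rcases (hμspec T hT).2.2 with rfl | hTo
          · rw [conjRecip_X_sub_one]; exact ⟨hX.1, hX.2.1⟩
          · exact ⟨((mem_orbitPolys _).1 (dual_mem_orbit hσ hTo)).1,
              ((mem_orbitPolys _).1 (dual_mem_orbit hσ hTo)).2.1⟩
        have h1 : normalizedFactors (μ.map (conjRecip σ)).prod = μ.map (conjRecip σ) := by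
          rw [normalizedFactors_prod_eq _ fun P hP => (hspec P hP).1]
          conv_rhs => rw [← Multiset.map_id (μ.map (conjRecip σ))]
          exact Multiset.map_congr rfl fun P hP => (hspec P hP).2.normalize_eq_self
        rw [← h1, ← conjRecip_prod, hμprod, hχs]
      have hdd : ∀ P ∈ μ, conjRecip σ (conjRecip σ P) = P := by
        intro P hP
        rcases (hμspec P hP).2.2 with rfl | hPo
        · rw [conjRecip_X_sub_one, conjRecip_X_sub_one]
        · exact dual_dual_orbit hσ hPo
      have hsym : ∀ P ∈ orbitPolys F r, μ.count (conjRecip σ P) = μ.count P := by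
        intro P hP
        by_cases hmem : P ∈ μ
        · conv_lhs => rw [← hμsym]
          exact Multiset.count_map_eq_count (conjRecip σ) μ
            (fun a ha b hb e => by rw [← hdd a ha, e, hdd b hb]) P hmem
        · have hmem' : conjRecip σ P ∉ μ := fun h' => hmem (by
            rw [← hμsym, Multiset.mem_map]
            exact ⟨_, h', dual_dual_orbit hσ hP⟩)
          rw [Multiset.count_eq_zero.2 hmem, Multiset.count_eq_zero.2 hmem']
      have hrep : ∀ A : atoms σ r, ∃ P ∈ orbitPolys F r, atom σ P = A := fun A =>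
        Finset.mem_image.1 A.2
      choose rep hrep hrepA using hrep
      let m₀ : Multiset (atoms σ r) := ∑ A : atoms σ r, Multiset.replicate (μ.count (rep A)) A
      have hm₀ : ∀ A, m₀.count A = μ.count (rep A) := fun A => by
        simp [m₀, Multiset.count_sum', Multiset.count_replicate]
      set χ₀ := ((m₀.map some).map (val σ r w)).prod with hχ₀
      have hcount₀ : ∀ T ∈ orbitPolys F r, (normalizedFactors χ₀).count T = μ.count T := by
        intro T hT
        rw [hχ₀, count_prod_val hσ hrF w hT _ (Finset.mem_image_of_mem _ hT),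
          Multiset.count_map_eq_count' _ _ (Option.some_injective _), hm₀]
        rcases (atom_eq_iff hσ hT (hrep _)).1 (hrepA ⟨atom σ T, Finset.mem_image_of_mem _ hT⟩) with e | e
        · rw [e]
        · rw [e, hsym T hT]
      have hsplit : μ = normalizedFactors χ₀ + Multiset.replicate (μ.count (X - 1)) (X - 1) := by
        refine Multiset.ext.2 fun T => ?_
        rw [Multiset.count_add, Multiset.count_replicate]
        by_cases hT : T ∈ orbitPolys F r
        · rw [hcount₀ T hT, if_neg (Ne.symm (orbit_ne_X_sub_one hrF hT)), add_zero]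
        · rw [Multiset.count_eq_zero.2 fun h => hT (mem_nf_prod_some hσ w m₀ h), zero_add]
          split_ifs with hT1
          · rw [hT1]
          · rw [Multiset.count_eq_zero]
            exact fun h => (hμspec T h).2.2.elim (Ne.symm hT1) hT
      have hχeq : χ = χ₀ * (X - 1) ^ μ.count (X - 1) := by
        conv_lhs => rw [← hμprod, hsplit, Multiset.prod_add, Multiset.prod_replicate,
          prod_normalizedFactors_eq (monic_prod_val hσ w _).ne_zero,
          (monic_prod_val hσ w _).normalize_eq_self]
      have hdeg := hχd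
      rw [hχeq, (monic_prod_val hσ w _).natDegree_mul (hX.2.1.pow _), natDegree_prod_val hσ hw,
        natDegree_pow, hX.2.2, mul_one, Multiset.card_map] at hdeg
      have hle : Multiset.card m₀ ≤ n / w := (Nat.le_div_iff_mul_le hw0).2 (by omega)
      refine ⟨⟨m₀.map some + Multiset.replicate (n / w - Multiset.card m₀) none, by simp; omega⟩,
        Subtype.ext ?_⟩
      show ((m₀.map some + Multiset.replicate (n / w - Multiset.card m₀) none).map (val σ r w)).prod *
        (X - 1) ^ (n % w) = χ
      rw [Multiset.map_add, Multiset.prod_add, prod_replicate_none hσ, mul_assoc, ← pow_add, hχeq]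
      congr 2
      have h1 := Nat.div_add_mod' n w
      have h2 := Nat.mul_le_mul_right w hle
      rw [Nat.sub_mul]
      omega
  rw [← Nat.card_eq_of_bijective _ hbij, Nat.card_eq_fintype_card, Sym.card_sym_eq_choose,
    Fintype.card_option, Fintype.card_coe, show (atoms σ r).card + 1 + n / w - 1 =
      n / w + (atoms σ r).card by generalize n / w = b; omega]
  exact Nat.choose_symm_of_eq_add rfl

end

end CfsgLib.SelfDualCount
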